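import Cfsg.Agent.H174.CYS.Sph
import Cfsg.Agent.H513.PQ.HNHecke

/-!
# S4829, `HN`: the rational characters 653125 (`p = 3`) and 16929 (`p = 5`) (helper174)

The lattice test on 1539000 points, keeping the spherical functions.
-/

set_option autoImplicit false
set_option linter.style.longLine false

namespace Cfsg.Agent.H174.CYS.HN

open Cfsg Cfsg.Agent.HN Cfsg.Agent.HN.Pres Cfsg.Agent.HN.DCover Cfsg.Agent.HN.NormalH Cfsg.Agent.HN.DSem
open Cfsg.Agent.HN.Index Cfsg.Agent.H492.IMSph Cfsg.Agent.H33 Cfsg.Agent.H492.IMHN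
open Cfsg.Agent.H426.Imc.HN (vC vD uC uD eigC eigD normC normD)
open Cfsg.Agent.H894.PQ.Hecke Cfsg.Agent.H593.IMFrame Cfsg.Agent.H317.PQ
open Cfsg.Agent.Blocks.Basic Cfsg.Agent.Blocks.Local Cfsg.Agent.H709.PB
open Cfsg.Agent.H488.PQ (exists_triv triv_mem deg_triv)
open Cfsg.Agent.H513.PQ.HNRow Cfsg.Agent.H629.CY Cfsg.Agent.H770.CY Cfsg.Agent.H174.CYS

universe v

noncomputable local instance fG : Fintype Cfsg.Spor.HN := Fintype.ofFinite _

noncomputable local instance fX : Fintype (Cfsg.Spor.HN ⧸ H) := Fintype.ofFinite _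

/-- the decision, with rational characters -/
theorem decide_rat {p : ℕ} (hp : p.Prime) (αs : List (Fin 5 → ℚ))
    (hα : ∀ α ∈ αs, ∀ j, (∑ l, α l * (ss j * VV l j)).den = 1) (C : Finset (Fin 5) → Prop) [DecidablePred C]
    (hC : ∀ S : Finset (Fin 5), 0 ∈ S → (∀ α ∈ αs, ¬ p ∣ (∑ l ∈ S, α l).den) → C S) (l : Fin 5)
    (hl : ∀ S, C S → l ∈ S) : ∃ χ : IrrCharacter Cfsg.Spor.HN, χ ∈ B0 p Cfsg.Spor.HN ∧
      charDegree (χ : Cfsg.Spor.HN → ℂ) = dd l ∧ Cyc p (χ : Cfsg.Spor.HN → ℂ) := by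
  obtain ⟨χ, h0, h1, h2⟩ := exists_all
  obtain ⟨S, hS, hCS⟩ := force hp sub (i0 := 0) (by rw [w9_zero]) h1 VV_zero αs hα 0 (triv_mem hp h0) C hC
  refine ⟨χ l, (hS l).1 (hl S hCS), h2 l, ?_⟩
  intro k hk _ g
  exact sph_pow sub (i0 := 0) (by rw [w9_zero]) (h1 l) (VV_zero l) hk g

def b5 : List (Fin 5 → ℚ) := [![1/5, 0, 0, 0, -1/5]]

theorem hb5 : ∀ α ∈ b5, ∀ j, (∑ l, α l * (ss j * VV l j)).den = 1 := by decide +kernel

theorem cb5 : ∀ S : Finset (Fin 5), 0 ∈ S → (∀ α ∈ b5, ¬ 5 ∣ (∑ l ∈ S, α l).den) → 4 ∈ S := by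
  decide +kernel

/-- **`p = 3`** -/
theorem witO_three {S : Type v} [Group S] (h : Spor.IsoHN S) : WitO 3 S := by
  obtain ⟨e⟩ := h
  obtain ⟨χ, hB, hd, hc⟩ := decide_rat Nat.prime_three a3 h3 (fun S => 2 ∈ S ∧ 3 ∈ S) c3 3 fun _ h => h.2
  exact witO_of e.symm hd hB hc (by decide) (by decide) (by decide)

/-- **`p = 5`** -/
theorem witO_five {S : Type v} [Group S] (h : Spor.IsoHN S) : WitO 5 S := by
  obtain ⟨e⟩ := h
  obtain ⟨χ, hB, hd, hc⟩ := decide_rat Nat.prime_five b5 hb5 (fun S => 4 ∈ S) cb5 4 fun _ h => h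
  exact witO_of e.symm hd hB hc (by decide) (by decide) (by decide)

end Cfsg.Agent.H174.CYS.HN
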