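import Cfsg.Agent.H629.CY.Core
import Cfsg.Agent.H653.B0R.Basic
import Cfsg.Agent.H776.CY.Congr
import Cfsg.Agent.H528.RatB.He
import Cfsg.Agent.H997.OutHe2
import Cfsg.Agent.H55.OutGen
import Cfsg.Agent.S2075

/-!
# S4829: an outer automorphism which centralizes a Sylow subgroup; `He`, `p = 3` (helper174)

`WitC.rowA_reg` : `S` simple nonabelian, `|Out S| ≤ 2`, `p` odd, `WitC p S` (any parity of the degree), `a` an outer
automorphism which centralizes a Sylow `p`-subgroup of `S`: the row `RowA p S`. (If a character `χ` over `θ` in the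
principal block of `A` were moved by a field automorphism to `χ ε`, then `χ (a) ≡ χ (1)` and `-χ (a) ≡ χ (1)`.)

`He.rowA_three` : the automorphism `rho` of helper997 centralizes a subgroup of order 27.
-/

set_option autoImplicit false

namespace Cfsg.Agent.H174.CYS

open Cfsg Subgroup Cfsg.Agent.H770.CY Cfsg.Agent.H629.CY Cfsg.Agent.Characters.Core Cfsg.Agent.Blocks
open scoped ComplexConjugate

universe u

/-- the Galois conjugates of an extension in the principal block -/
theorem cyc_of_reg {W : Type u} [Group W] [Finite W] (D : Subgroup W) [D.Normal] (hD : D.index = 2) {p : ℕ}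
    [hp : Fact p.Prime] (hp2 : p ≠ 2) {M : Ideal AlgInt} (hM : IsPModular p M) {χ : IrrCharacter W} {θ : IrrCharacter D}
    (hχB : χ ∈ principalBlock M W) (hres : ∀ d : D, (χ : W → ℂ) d = (θ : D → ℂ) d)
    (hd : ¬ p ∣ charDegree (χ : W → ℂ)) (hc : Cyc p (θ : D → ℂ)) {w : W} (hw : w ∉ D)
    (hwp : ¬ p ∣ (centralizer ({w} : Set W)).index) : Cyc p (χ : W → ℂ) := by
  intro k hk hkp g
  obtain ⟨σ, hσ⟩ := exists_sigma hk
  have hχ := isIrr_isCharacter χ.2
  have hkD : k.Coprime (Nat.card D) := hk.coprime_dvd_right (Subgroup.card_subgroup_dvd_card D)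
  have hχ' : IsIrrCharacter W (fun g => σ ((χ : W → ℂ) g)) := OddOrderCharacters.GaloisTwist.isIrrCharacter_map σ χ.2
  obtain ⟨β, hβD, hβ⟩ := CharactersDeep.ExtUnique.exists_hom_mul_of_restrict_eq D hχ (isIrr_isCharacter hχ') θ.2 hres
    (fun n => by
      show σ ((χ : W → ℂ) n) = _
      rw [hσ hχ, ← hc k hkD hkp n, ← hres]
      rfl)
  have hprime : M.IsPrime := Blocks.Local.isPrime_of_isPModular hM
  have hdeg : (χ : W → ℂ) 1 = ((charDegree (χ : W → ℂ) : ℕ) : ℂ) := Blocks.Basic.irr_one_eq_charDegree χ.2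
  have hsq : ∀ x : W, x ^ 2 ∈ D := fun x => by
    rw [← hD]
    exact D.pow_index_mem x
  -- the value at `w`
  have h1 : MemLocalIdeal M ((χ : W → ℂ) w - (χ : W → ℂ) 1) := value_of_mem hM hχB hwp
  have h2 : MemLocalIdeal M ((χ : W → ℂ) (w ^ k) - (χ : W → ℂ) 1) := by
    have h3 := value_of_mem hM (Cfsg.Agent.H653.B0R.pw_mem hk hχB) hwp
    have h4 : ((H610.Twist.pw hk χ : IrrCharacter W) : W → ℂ) w = (χ : W → ℂ) (w ^ k) := rfl
    have h5 : ((H610.Twist.pw hk χ : IrrCharacter W) : W → ℂ) 1 = (χ : W → ℂ) 1 := by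
      rw [H610.Twist.pw_apply, one_pow]
    rwa [h4, h5] at h3
  have h3 : (χ : W → ℂ) (w ^ k) = (χ : W → ℂ) w * ((β w : ℂˣ) : ℂ) := by
    rw [← hσ hχ]
    exact hβ w
  have hβw : ((β w : ℂˣ) : ℂ) = 1 ∨ ((β w : ℂˣ) : ℂ) = -1 := by
    have h4 : β w ^ 2 = 1 := by
      rw [← map_pow]
      exact hβD _ (hsq w)
    have h5 : ((β w : ℂˣ) : ℂ) ^ 2 = 1 := by rw [← Units.val_pow_eq_pow_val, h4, Units.val_one]
    exact mul_self_eq_one_iff.1 (by rw [← pow_two]; exact h5)
  have hβ1 : β w = 1 := by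
    rcases hβw with h | h
    · exact Units.ext h
    · exfalso
      rw [h3, h] at h2
      have h4 := Blocks.Local.memLocalIdeal_add h1 h2
      have h5 : (χ : W → ℂ) w - (χ : W → ℂ) 1 + ((χ : W → ℂ) w * -1 - (χ : W → ℂ) 1) =
          -((2 * charDegree (χ : W → ℂ) : ℕ) : ℂ) := by
        rw [hdeg]
        push_cast
        ring
      rw [h5, Blocks.Local.memLocalIdeal_neg_iff, Blocks.Local.memLocalIdeal_natCast_iff hM] at h4
      rcases hp.out.dvd_mul.1 h4 with h6 | h6
      · exact hp2 ((Nat.prime_dvd_prime_iff_eq hp.out Nat.prime_two).1 h6)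
      · exact hd h6
  have h6 : β g = 1 := by
    by_cases hg : g ∈ D
    · exact hβD g hg
    · have h7 : g * w⁻¹ ∈ D := by
        rw [Subgroup.mul_mem_iff_of_index_two hD]
        simp [hg, hw]
      have h8 : g = g * w⁻¹ * w := by group
      rw [h8, map_mul, hβD _ h7, hβ1, one_mul]
  have h11 := hβ g
  rw [h6, Units.val_one, mul_one] at h11
  rw [← hσ hχ]
  exact h11

/-- **over a subgroup of index two** -/
theorem exists_good_reg {W : Type u} [Group W] [Finite W] (D : Subgroup W) [hDn : D.Normal] (hD : D.index = 2)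
    {p : ℕ} [hp : Fact p.Prime] (hp2 : p ≠ 2) {M : Ideal AlgInt} (hM : IsPModular p M)
    {θ : IrrCharacter D} (hθ : θ ∈ principalBlock M D) (hd : ¬ p ∣ charDegree (θ : D → ℂ)) (hc : Cyc p (θ : D → ℂ))
    {w : W} (hw : w ∉ D) (hwp : ¬ p ∣ (centralizer ({w} : Set W)).index) :
    ∃ χ : IrrCharacter W, χ ∈ principalBlock M W ∧ ¬ p ∣ charDegree (χ : W → ℂ) ∧ Cyc p (χ : W → ℂ) ∧
      ((∀ d : D, (χ : W → ℂ) d = (θ : D → ℂ) d) ∨
        ((θ : D → ℂ) ∘ (MulAut.conjNormal w : MulAut D) ≠ (θ : D → ℂ) ∧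
          ∀ d : D, (χ : W → ℂ) d = (θ : D → ℂ) d + (θ : D → ℂ) (MulAut.conjNormal w d))) := by
  have := Fintype.ofFinite W
  have := Fintype.ofFinite D
  obtain ⟨P⟩ : Nonempty (Sylow p W) := inferInstance
  obtain ⟨χ, hχ, h0⟩ := H656.OverPrincipal.exists_over hM D P (by rw [normalizer_eq_top]; exact le_top) θ hθ
  have hdeg : (χ : W → ℂ) 1 = ((charDegree (χ : W → ℂ) : ℕ) : ℂ) := Blocks.Basic.irr_one_eq_charDegree χ.2
  have hdegθ : (θ : D → ℂ) 1 = ((charDegree (θ : D → ℂ) : ℕ) : ℂ) := Blocks.Basic.irr_one_eq_charDegree θ.2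
  by_cases hv : ∀ x, x ∉ D → (χ : W → ℂ) x = 0
  · obtain ⟨hne, hres⟩ := res_of_vanish D hD h0 hv hw
    refine ⟨χ, hχ, ?_, ?_, Or.inr ⟨hne, hres⟩⟩
    · have h1 := hres 1
      rw [map_one, OneMemClass.coe_one, hdeg, hdegθ] at h1
      have h2 : charDegree (χ : W → ℂ) = 2 * charDegree (θ : D → ℂ) := by
        have h3 : ((charDegree (χ : W → ℂ) : ℕ) : ℂ) = ((2 * charDegree (θ : D → ℂ) : ℕ) : ℂ) := by
          rw [h1]; push_cast; ring
        exact_mod_cast h3
      rw [h2]
      intro h3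
      rcases hp.out.dvd_mul.1 h3 with h4 | h4
      · exact hp2 ((Nat.prime_dvd_prime_iff_eq hp.out Nat.prime_two).1 h4)
      · exact hd h4
    · intro k hk hkp g
      have hkD : k.Coprime (Nat.card D) := hk.coprime_dvd_right (card_subgroup_dvd_card D)
      by_cases hg : g ∈ D
      · have h1 := hres ⟨g, hg⟩
        have h2 := hres (⟨g, hg⟩ ^ k)
        rw [map_pow, hc k hkD hkp, hc k hkD hkp, ← h1] at h2
        exact h2
      · have hk2 : Odd k := by
          have h1 : 2 ∣ Nat.card W := ⟨Nat.card D, by rw [← D.card_mul_index, hD, mul_comm]⟩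
          exact (Nat.coprime_two_right.1 (hk.coprime_dvd_right h1))
        have h2 : g ^ k ∉ D := by
          obtain ⟨j, rfl⟩ := hk2
          rw [pow_succ, mul_mem_iff_of_index_two hD]
          have h3 : g ^ (2 * j) ∈ D := by
            rw [pow_mul]
            apply pow_mem
            rw [← hD]
            exact D.pow_index_mem g
          simp [h3, hg]
        rw [hv _ h2, hv _ hg]
  · push Not at hv
    obtain ⟨x, hx, hx0⟩ := hv
    have hres := res_of_not_vanish D hD h0 hx hx0
    have hdd : ¬ p ∣ charDegree (χ : W → ℂ) := by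
      have h1 := hres 1
      rw [OneMemClass.coe_one, hdeg, hdegθ] at h1
      have h2 : charDegree (χ : W → ℂ) = charDegree (θ : D → ℂ) := by exact_mod_cast h1
      rw [h2]
      exact hd
    exact ⟨χ, hχ, hdd, cyc_of_reg D hD hp2 hM hχ hres hdd hc hw hwp, Or.inl hres⟩

/-- `A` contains the inner automorphisms with index two -/
theorem witA_of_reg {S : Type u} [Group S] {A : Subgroup (MulAut S)} [Fintype S] {p : ℕ} [hp : Fact p.Prime]
    (hp2 : p ≠ 2) {M : Ideal AlgInt} (hM : IsPModular p M) (hA : ∀ s : S, MulAut.conj s ∈ A) (hz : center S = ⊥)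
    (hi : (inn hA).range.index = 2) {θ : IrrCharacter S} (h1 : θ ∈ principalBlock M S)
    (h2 : (θ : S → ℂ) ≠ fun _ => 1) (h3 : ¬ p ∣ charDegree (θ : S → ℂ)) (h4 : Cyc p (θ : S → ℂ)) {w : A}
    (hw : w ∉ (inn hA).range) (hQ : ∃ Q : Sylow p S, ∀ x ∈ Q, (w : MulAut S) x = x) :
    ∃ Ψ : A → ℂ, WitA p M S A hA Ψ := by
  have : Finite (MulAut S) := inferInstance
  let e : S ≃* (inn hA).range := MonoidHom.ofInjective (inn_injective hA hz)
  have he : ∀ s, ((e s : (inn hA).range) : A) = inn hA s := fun s => rfl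
  have hN : (inn hA).range.Normal := normal_of_index_eq_two hi
  set θD : IrrCharacter (inn hA).range := ⟨_, isIrr_comp (e.symm : (inn hA).range →* S) e.symm.surjective θ.2⟩ with hθD
  have hθe : ∀ s, (θD : (inn hA).range → ℂ) (e s) = (θ : S → ℂ) s := fun s => by
    show (θ : S → ℂ) (e.symm (e s)) = _
    rw [e.symm_apply_apply]
  have hidx : ¬ p ∣ (inn hA).range.index := by
    rw [hi]
    intro h
    exact hp2 ((Nat.prime_dvd_prime_iff_eq hp.out Nat.prime_two).1 h)
  have hwp : ¬ p ∣ (centralizer ({w} : Set A)).index := by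
    obtain ⟨Q, hQ⟩ := hQ
    intro h5
    have h6 : (Q : Subgroup S).map (inn hA) ≤ centralizer ({w} : Set A) := by
      rintro _ ⟨x, hx, rfl⟩
      rw [mem_centralizer_singleton_iff]
      have h7 := conj_inn hA w x
      rw [hQ x hx] at h7
      calc inn hA x * w = w * inn hA x * w⁻¹ * w := by rw [h7]
        _ = w * inn hA x := by group
    have h7 := h5.trans (index_dvd_of_le h6)
    rw [index_map_of_injective (Q : Subgroup S) (inn_injective hA hz)] at h7
    rcases hp.out.dvd_mul.1 h7 with h8 | h8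
    · exact Q.not_dvd_index h8
    · exact hidx h8
  obtain ⟨χ, g1, g2, g3, g4⟩ := exists_good_reg (inn hA).range hi hp2 hM
    (H493.RatB.mem_principalBlock_comp e.symm h1)
    (by
      show ¬ p ∣ charDegree (fun x => (θ : S → ℂ) (e.symm x))
      rwa [charDegree_comp])
    (Cyc.comp e.symm h4) hw hwp
  refine ⟨χ, witA_of_good hM hA hz hidx g1 g2 g3 fun θ' => ?_⟩
  rcases g4 with g4 | ⟨g4, g5⟩
  · have hres : (fun s => (χ : A → ℂ) (inn hA s)) = (θ : S → ℂ) := by
      funext s
      rw [← he, g4]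
      exact hθe s
    rw [hres]
    rcases inner_cases θ.2 θ'.2 with h | h
    · exact Or.inl h.1
    · refine Or.inr ⟨h.1, ?_, ?_⟩
      · rw [← h.2]; exact h2
      · rw [← h.2]; exact h4
  · set θw : S → ℂ := fun s => (θ : S → ℂ) ((w : MulAut S) s) with hθw
    have hwirr : IsIrrCharacter S θw := isIrr_comp ((w : MulAut S) : S →* S) (w : MulAut S).surjective θ.2
    have hcn : ∀ s, MulAut.conjNormal w (e s) = e ((w : MulAut S) s) := fun s => by
      apply Subtype.ext
      show w * inn hA s * w⁻¹ = inn hA ((w : MulAut S) s)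
      exact conj_inn hA w s
    have hne : (θ : S → ℂ) ≠ θw := by
      intro h
      apply g4
      funext d
      obtain ⟨s, rfl⟩ := e.surjective d
      show (θD : (inn hA).range → ℂ) (MulAut.conjNormal w (e s)) = (θD : (inn hA).range → ℂ) (e s)
      rw [hcn, hθe, hθe]
      exact (congrFun h s).symm
    have hres : (fun s => (χ : A → ℂ) (inn hA s)) = (θ : S → ℂ) + θw := by
      funext s
      rw [← he, g5, hcn, hθe, hθe]
      rfl
    have hwc : Cyc p θw := Cyc.comp (w : MulAut S) h4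
    have hw1 : θw ≠ fun _ => 1 := ne_one_comp (w : MulAut S) h2
    rw [hres, classInner_add_left]
    rcases inner_cases θ.2 θ'.2 with h | h
    · rcases inner_cases hwirr θ'.2 with h' | h'
      · left
        rw [h.1, h'.1, add_zero]
      · refine Or.inr ⟨by rw [h.1, h'.1, zero_add], ?_, ?_⟩
        · rw [← h'.2]; exact hw1
        · rw [← h'.2]; exact hwc
    · rcases inner_cases hwirr θ'.2 with h' | h'
      · refine Or.inr ⟨by rw [h.1, h'.1, add_zero], ?_, ?_⟩
        · rw [← h.2]; exact h2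
        · rw [← h.2]; exact h4
      · exact absurd (h.2.trans h'.2.symm) hne

/-- **The row for `|Out S| ≤ 2`, with an outer automorphism which centralizes a Sylow `p`-subgroup.** -/
theorem _root_.Cfsg.Agent.H629.CY.WitC.rowA_reg {p : ℕ} [hp : Fact p.Prime] (hp2 : p ≠ 2) {S : Type u} [Group S]
    [Fintype S] [IsSimpleGroup S] (hna : ¬ IsMulCommutative S)
    (hout : (MulAut.conj : S →* MulAut S).range.index ≤ 2) (h : WitC p S) {a : MulAut S}
    (ha : a ∉ (MulAut.conj : S →* MulAut S).range) (hQ : ∃ Q : Sylow p S, ∀ x ∈ Q, a x = x) : RowA p S := by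
  intro A hA M hM
  have : Finite (MulAut S) := inferInstance
  obtain ⟨θ, h1, h2, h3, h4⟩ := h M hM
  have h6 := index_inn hA.1
  have h7 : (inn hA.1).range.index ≠ 0 := index_ne_zero_of_finite
  have h8 : A.index ≠ 0 := index_ne_zero_of_finite
  have h9 : (inn hA.1).range.index ≤ 2 := by
    calc (inn hA.1).range.index ≤ (inn hA.1).range.index * A.index := Nat.le_mul_of_pos_right _ (Nat.pos_of_ne_zero h8)
      _ ≤ 2 := by rw [h6]; exact hout
  have h10 : (inn hA.1).range.index = 1 ∨ (inn hA.1).range.index = 2 := by omega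
  rcases h10 with h10 | h10
  · exact witA_of_inner hM hA.1 (center_eq_bot hna) (MonoidHom.range_eq_top.1 (index_eq_one.1 h10)) h1 h2 h3 h4
  · have h11 : A.index = 1 := by
      rw [h10] at h6
      have h12 : 2 * A.index ≤ 2 := by rw [h6]; exact hout
      omega
    have h12 : A = ⊤ := index_eq_one.1 h11
    have haA : a ∈ A := by rw [h12]; exact mem_top a
    refine witA_of_reg hp2 hM hA.1 (center_eq_bot hna) h10 h1 h2 h3 h4 (w := ⟨a, haA⟩) ?_ hQ
    rintro ⟨s, hs⟩
    exact ha ⟨s, congrArg Subtype.val hs⟩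

end Cfsg.Agent.H174.CYS

namespace Cfsg.Agent.H174.CYS.He

open Cfsg Subgroup Cfsg.Spor Cfsg.Spor.He Cfsg.Agent.H770.CY Cfsg.Agent.H629.CY Cfsg.Agent.H997.OutHe
open Cfsg.Agent.KFacts.He.Lv Cfsg.Agent.FixBN.HeStab Cfsg.Agent.SporadicB.HePerm

universe u

theorem card_he : Nat.card He = 4030387200 := KFacts.He.Classes.card_he

/-- the fixed points of `rho` -/
noncomputable def FR : Subgroup He where
  carrier := {x | rho x = x}
  mul_mem' {x y} hx hy := by
    show rho (x * y) = x * y
    rw [map_mul, show rho x = x from hx, show rho y = y from hy]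
  one_mem' := map_one _
  inv_mem' {x} hx := by
    show rho x⁻¹ = x⁻¹
    rw [map_inv, show rho x = x from hx]

theorem dvd_FR : 756 ∣ Nat.card FR := by
  have hle : HP ≤ FR.map phi := by
    refine (Subgroup.closure_le _).2 ?_
    rintro _ ⟨w, hw, rfl⟩
    have key : ∀ x : Gen, sw x = x → ([x].map pm).prod ∈ FR.map phi := by
      intro x hx
      refine ⟨gn x, ?_, ?_⟩
      · show rho (gn x) = gn x
        rw [rho_gn, hx]
      · rw [← wd_one]
        exact phi_wd [x]
    simp only [ws, List.mem_cons, List.not_mem_nil, or_false] at hw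
    rcases hw with rfl | rfl | rfl | rfl | rfl
    all_goals exact key _ rfl
  have h1 := dvd_HP.trans (Subgroup.card_dvd_of_le hle)
  rwa [Subgroup.card_map_of_injective phi_injective] at h1

/-- **`rho` centralizes a Sylow 3-subgroup** -/
theorem exists_sylow : ∃ Q : Sylow 3 He, ∀ x ∈ Q, rho x = x := by
  have hfin : Finite He := Nat.finite_of_card_ne_zero (by rw [card_he]; norm_num)
  have h3 : Fact (Nat.Prime 3) := ⟨Nat.prime_three⟩
  obtain ⟨P, hP⟩ := Sylow.exists_subgroup_card_pow_prime (G := FR) 3 (n := 3)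
    ((by norm_num : (3 ^ 3 : ℕ) ∣ 756).trans dvd_FR)
  have hc : Nat.card (P.map FR.subtype) = 3 ^ 3 := by
    rw [Subgroup.card_map_of_injective FR.subtype_injective, hP]
  have hf : (Nat.card He).factorization 3 = 3 := by
    rw [card_he]
    have e1 : (4030387200 : ℕ) = 3 ^ 3 * 149273600 := by norm_num
    rw [e1, Nat.factorization_mul (by norm_num) (by norm_num), Finsupp.add_apply,
      Nat.Prime.factorization_pow Nat.prime_three, Finsupp.single_eq_same,
      Nat.factorization_eq_zero_of_not_dvd (by norm_num)]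
  refine ⟨Sylow.ofCard (P.map FR.subtype) (by rw [hc, hf]), ?_⟩
  rintro _ ⟨y, -, rfl⟩
  exact y.2

/-- **`He`, `p = 3`** -/
theorem rowA_three_model [Fintype He] : RowA 3 He := by
  have h3 : Fact (Nat.Prime 3) := ⟨Nat.prime_three⟩
  have hs := Cfsg.Agent.S1695.result.1
  have hout : (MulAut.conj : He →* MulAut He).range.index ≤ 2 := by
    have h1 := Cfsg.Agent.S2075.result
    rw [H55.OutGen.card_out_eq_index] at h1
    exact le_of_eq h1
  refine WitC.rowA_reg (by norm_num) ?_ hout (witC_of_witR (H528.RatB.He.he_three ⟨MulEquiv.refl _⟩)) (a := rho) ?_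
    exists_sylow
  · intro hc
    have h1 : (Nat.card He).Prime := by
      let _ : CommGroup He := { (inferInstance : Group He) with
        mul_comm := hc.is_comm.comm }
      exact IsSimpleGroup.prime_card
    rw [card_he] at h1
    norm_num at h1
  · rintro ⟨k, hk⟩
    exact rho_outer k hk.symm

theorem rowA_three {S : Type u} [Group S] [Fintype S] (h : Spor.IsoHe S) : RowA 3 S := by
  obtain ⟨e⟩ := h
  have hfin : Finite He := Nat.finite_of_card_ne_zero (by rw [card_he]; norm_num)
  have := Fintype.ofFinite He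
  exact H776.CY.RowA.congr e rowA_three_model

end Cfsg.Agent.H174.CYS.He
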