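import Cfsg.Agent.H894.PQ.Hecke
import Cfsg.Agent.Characters.GaloisIrr
import Cfsg.Agent.H629.CY.Defs
import Cfsg.Agent.H792.PQ.A3a

/-!
# Characters with a rational spherical function are rational (helper174)

`sph_unique` : an irreducible character is determined by its (rational, normalised) spherical function;
`sph_pow` : `χ (g ^ m) = χ g` for `m` prime to `|G|`;
`witO_of` : the witness `WitO p S` (S4829) from a character of a model.
-/

set_option autoImplicit false
set_option linter.unusedSectionVars false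

open Cfsg

namespace Cfsg.Agent.H174.CYS

open Cfsg.Agent.H894.PQ.Hecke Cfsg.Agent.H593.IMFrame Cfsg.Agent.Characters Cfsg.Agent.Blocks.Basic
open scoped ComplexConjugate
open Cfsg.Agent.Characters.Core (isCharacter_apply_inv isIrr_isCharacter finite_irr isIrr_isClassFunction isIrr_apply_one_ne_zero)

universe u

variable {G : Type u} [Group G] [Fintype G] {X : Type u} [MulAction G X] [Fintype X] {r : ℕ}
  {a : X} {b : Fin r → X} {k : Fin r → ℕ}

open scoped Classical in
theorem E_rel {χ : G → ℂ} (hχ : IsClassFunction G χ) {y z : X} (h : Rel G a z a y) :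
    E χ a y = E χ a z := by
  obtain ⟨g, hg1, hg2⟩ := h
  conv_lhs => rw [← hg2]
  nth_rewrite 1 [← hg1]
  exact E_smul hχ g a z

open scoped Classical in
theorem sph_unique (h : Sub G X a b k) {i0 : Fin r} (hi0 : b i0 = a) {χ ψ : IrrCharacter G} {V : Fin r → ℚ}
    (hχ : IsSph G a b χ V) (hψ : IsSph G a b ψ V) (hV0 : V i0 = 1) : χ = ψ := by
  by_contra hne
  have h1 := E_mul χ ψ a a
  rw [if_neg hne] at h1
  choose o ho using fun y : X => h.exists_rel a y
  have h2 : ∀ y : X, E (χ : G → ℂ) a y * E (ψ : G → ℂ) y a = (((V (o y)) ^ 2 : ℚ) : ℂ) *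
      ((charDegree (χ : G → ℂ) : ℂ) / Nat.card X * ((charDegree (ψ : G → ℂ) : ℂ) / Nat.card X)) := by
    intro y
    rw [← conj_E (isIrr_isCharacter ψ.2) a y, E_rel (isIrr_isClassFunction χ.2) (ho y),
      E_rel (isIrr_isClassFunction ψ.2) (ho y), hχ (o y), hψ (o y), map_mul, map_div₀, map_natCast, map_natCast,
      map_ratCast]
    push_cast
    ring
  rw [Finset.sum_congr rfl fun y _ => h2 y, ← Finset.sum_mul] at h1
  have hX0 : (Nat.card X : ℂ) ≠ 0 := by exact_mod_cast h.card_pos.ne'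
  have hd : ∀ θ : IrrCharacter G, (charDegree (θ : G → ℂ) : ℂ) ≠ 0 := by
    intro θ
    rw [charDegree_eq θ.2]
    exact isIrr_apply_one_ne_zero θ.2
  have h3 : ((∑ y : X, (V (o y)) ^ 2 : ℚ) : ℂ) = 0 := by
    push_cast
    rcases mul_eq_zero.1 h1 with h4 | h4
    · push_cast at h4
      exact h4
    · exact absurd h4 (mul_ne_zero (div_ne_zero (hd χ) hX0) (div_ne_zero (hd ψ) hX0))
  have h4 : (∑ y : X, (V (o y)) ^ 2 : ℚ) = 0 := by exact_mod_cast h3
  have h5 := (Finset.sum_eq_zero_iff_of_nonneg fun y _ => sq_nonneg (V (o y))).1 h4 a (Finset.mem_univ a)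
  have h6 : o a = i0 := by
    refine h.rel_unique (ho a) ?_
    rw [hi0]
    exact ⟨1, one_smul G a, one_smul G a⟩
  rw [h6, hV0] at h5
  norm_num at h5

open scoped Classical in
/-- **Rationality.** -/
theorem sph_pow (h : Sub G X a b k) {i0 : Fin r} (hi0 : b i0 = a) {χ : IrrCharacter G} {V : Fin r → ℚ}
    (hχ : IsSph G a b χ V) (hV0 : V i0 = 1) {m : ℕ} (hm : m.Coprime (Nat.card G)) (g : G) :
    (χ : G → ℂ) (g ^ m) = (χ : G → ℂ) g := by
  obtain ⟨σ, hσ⟩ := GaloisBasic.exists_ringEquiv_of_coprime (G := G) hm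
  have h1 : ∀ x : G, (fun x : G => (χ : G → ℂ) (x ^ m)) x = σ ((χ : G → ℂ) x) := fun x =>
    (hσ χ (isIrr_isCharacter χ.2) x).symm
  have hirr : IsIrrCharacter G (fun x : G => (χ : G → ℂ) (x ^ m)) := GaloisIrr.isIrr_pow hm χ.2
  have hone : (fun x : G => (χ : G → ℂ) (x ^ m)) 1 = (χ : G → ℂ) 1 := by simp
  have hconj : ∀ x : G, conj ((χ : G → ℂ) (x ^ m)) = σ (conj ((χ : G → ℂ) x)) := by
    intro x
    rw [← isCharacter_apply_inv (isIrr_isCharacter χ.2), ← isCharacter_apply_inv (isIrr_isCharacter χ.2),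
      hσ χ (isIrr_isCharacter χ.2), inv_pow]
  have hψ : IsSph G a b (⟨fun x : G => (χ : G → ℂ) (x ^ m), hirr⟩ : IrrCharacter G) V := by
    intro j
    have h2 : E (fun x : G => (χ : G → ℂ) (x ^ m)) a (b j) = σ (E (χ : G → ℂ) a (b j)) := by
      unfold E
      rw [map_mul, map_div₀, map_natCast, map_sum, hσ χ (isIrr_isCharacter χ.2) 1]
      congr 1
      · refine Finset.sum_congr rfl fun x _ => ?_
        by_cases hc : x • b j = a
        · rw [if_pos hc, if_pos hc, hconj]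
        · rw [if_neg hc, if_neg hc, map_zero]
    have h3 : (charDegree (fun x : G => (χ : G → ℂ) (x ^ m)) : ℂ) = (charDegree (χ : G → ℂ) : ℂ) := by
      rw [charDegree_eq hirr, charDegree_eq χ.2, one_pow]
    show E (fun x : G => (χ : G → ℂ) (x ^ m)) a (b j) = _
    rw [h2, hχ j, map_mul, map_div₀, map_natCast, map_natCast, map_ratCast]
    show _ = (V j : ℂ) * ((charDegree (fun x : G => (χ : G → ℂ) (x ^ m)) : ℂ) / Nat.card X)
    rw [h3]
  have h4 := sph_unique h hi0 hχ hψ hV0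
  exact (congrFun (congrArg Subtype.val h4) g).symm

end Cfsg.Agent.H174.CYS

namespace Cfsg.Agent.H174.CYS

open Cfsg.Agent.H629.CY Cfsg.Agent.H770.CY Cfsg.Agent.H317.PQ Cfsg.Agent.Characters Cfsg.Agent.Blocks.Basic
open Cfsg.Agent.Characters.Core (isIrr_isCharacter)

universe u v

/-- rational values -/
theorem cyc_of_rat {G : Type u} [Group G] [Finite G] {χ : IrrCharacter G} (h : ∀ g : G, ∃ q : ℚ, (χ : G → ℂ) g = q)
    (p : ℕ) : Cyc p (χ : G → ℂ) := by
  intro k hk _ g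
  obtain ⟨σ, hσ⟩ := GaloisBasic.exists_ringEquiv_of_coprime (G := G) hk
  obtain ⟨q, hq⟩ := h g
  rw [← hσ χ (isIrr_isCharacter χ.2) g, hq, map_ratCast]

/-- values fixed by all field automorphisms -/
theorem cyc_of_fixed {G : Type u} [Group G] [Finite G] {χ : IrrCharacter G}
    (h : ∀ (σ : ℂ ≃+* ℂ) (g : G), σ ((χ : G → ℂ) g) = (χ : G → ℂ) g) (p : ℕ) : Cyc p (χ : G → ℂ) := by
  intro k hk _ g
  obtain ⟨σ, hσ⟩ := GaloisBasic.exists_ringEquiv_of_coprime (G := G) hk
  rw [← hσ χ (isIrr_isCharacter χ.2) g, h]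

/-- **the witness from a model** -/
theorem witO_of {p d : ℕ} {G : Type u} [Group G] [Finite G] {S : Type v} [Group S] (e : G ≃* S) {χ : IrrCharacter G}
    (hd : charDegree (χ : G → ℂ) = d) (hB : χ ∈ B0 p G) (hc : Cyc p (χ : G → ℂ)) (hd2 : ¬ 2 ∣ d) (hdp : ¬ p ∣ d)
    (hd1 : d ≠ 1) : WitO p S := by
  intro M hM
  have hd' : charDegree ((H649.irrMap e χ : IrrCharacter S) : S → ℂ) = d := by
    have h6 : ((H649.irrMap e χ : IrrCharacter S) : S → ℂ) 1 = (χ : G → ℂ) 1 := by
      change (χ : G → ℂ) (e.symm 1) = _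
      rw [map_one]
    rw [irr_one_eq_charDegree χ.2, hd] at h6
    exact charDegree_of_eq h6
  refine ⟨H649.irrMap e χ, (H358.A3.B0_irrMap e χ).2 hB M hM, ?_, by rwa [hd'], ?_, ?_⟩
  · intro h1
    apply hd1
    rw [← hd', h1]
    exact charDegree_of_eq (by simp)
  · rw [hd']
    exact Nat.odd_iff.2 (by omega)
  · intro k hk hk1 s
    change (χ : G → ℂ) (e.symm (s ^ k)) = (χ : G → ℂ) (e.symm s)
    rw [map_pow]
    refine hc k ?_ hk1 (e.symm s)
    rwa [Nat.card_congr e.toEquiv]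

end Cfsg.Agent.H174.CYS
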